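import Cfsg.Agent.H347.HX.D42.Main

/-!
# S2464, row `³D₄(2)`: every element `≠ 1` is a product of two conjugates of an element of order 7 (helper332)

`x = t a e n` (class `7D`, centralized by the outer automorphism `σ`); the 20 classes of helper347's list by explicit words.
-/

set_option autoImplicit false
set_option maxRecDepth 100000
set_option Elab.async false

namespace Cfsg.Agent.H332.TC.D42

open Subgroup Cfsg.Agent.H347.HX Cfsg.Agent.H347.HX.D42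

/-- the word of `x` -/
abbrev wx : List ℕ := [4, 3, 2, 0]

theorem x_pow : (ev s wx) ^ 7 = 1 := by
  rw [poww]; exact key1 (by decide +kernel)

theorem σ_x : σ * ev s wx = ev s wx * σ := by
  apply Subtype.ext
  apply Equiv.ext
  intro q
  apply Fin.ext
  have h : (alb 819 fun p => Nat.beq (sf (ap fl wx p)) (ap fl wx (sf p))) = true := by decide +kernel
  have h1 : (((σ * ev s wx : A) : Equiv.Perm (Fin 819)) q : ℕ) = sf (ap fl wx q) := by
    show (((σ : Equiv.Perm (Fin 819)) (((ev s wx : A) : Equiv.Perm (Fin 819)) q) : Fin 819) : ℕ) = _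
    rw [rp_σ, Rp.ev rp_s]
  have h2 : (((ev s wx * σ : A) : Equiv.Perm (Fin 819)) q : ℕ) = ap fl wx (sf q) := by
    show ((((ev s wx : A) : Equiv.Perm (Fin 819)) ((σ : Equiv.Perm (Fin 819)) q) : Fin 819) : ℕ) = _
    rw [Rp.ev rp_s, rp_σ]
  rw [h1, h2]
  exact Nat.eq_of_beq_eq_true (of_alb h q q.2)

/-- every conjugate of `x` in `A` is a conjugate in `K` -/
theorem conj_K (a : A) : ∃ k ∈ K, a * ev s wx * a⁻¹ = k * ev s wx * k⁻¹ := by
  have hn := normal_K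
  have h1 : K ⊔ zpowers σ = ⊤ := by
    have h2 : (K ⊔ zpowers σ).index ∣ 3 := by
      rw [← index_K]
      exact Subgroup.index_dvd_of_le le_sup_left
    rcases (Nat.dvd_prime Nat.prime_three).1 h2 with h3 | h3
    · exact Subgroup.index_eq_one.1 h3
    · exfalso
      have h4 : K = K ⊔ zpowers σ := by
        refine Subgroup.eq_of_le_of_card_ge le_sup_left ?_
        have e1 := K.card_mul_index
        have e2 := (K ⊔ zpowers σ).card_mul_index
        rw [index_K] at e1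
        rw [h3] at e2
        omega
      apply σ_not_mem
      rw [h4]
      exact (le_sup_right : zpowers σ ≤ _) (mem_zpowers σ)
  have h2 : a ∈ K ⊔ zpowers σ := h1 ▸ mem_top a
  obtain ⟨k, hk, z, hz, rfl⟩ := Subgroup.mem_sup_of_normal_left.1 h2
  refine ⟨k, hk, ?_⟩
  obtain ⟨i, rfl⟩ := mem_zpowers_iff.1 hz
  have hc : Commute (σ ^ i) (ev s wx) := (show Commute σ (ev s wx) from σ_x).zpow_left i
  rw [mul_inv_rev, ← mul_assoc, mul_assoc k, hc.eq]
  group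

/-- `g = u x u⁻¹ v x v⁻¹` with words `u`, `v` -/
def T (w u v : List ℕ) : Bool := chk w (u ++ (wx ++ (u.reverse ++ (v ++ (wx ++ v.reverse)))))

theorem of_T {w u v : List ℕ} (h : T w u v = true) :
    ∃ u v : A, ev s w = (u * ev s wx * u⁻¹) * (v * ev s wx * v⁻¹) := by
  refine ⟨ev s u, ev s v, ?_⟩
  have h1 := key h
  rw [ev_append, ev_append, ev_append, ev_append, ev_append] at h1
  rw [revw, revw, h1]
  simp only [mul_assoc]

theorem t1 : T [3] [0, 2] [3, 0, 3, 4, 3, 2] = true := by decide +kernel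
theorem t2 : T [0] [3, 0, 3, 2, 1] [1, 3, 4, 2, 1, 3, 0, 4, 2, 1, 3] = true := by decide +kernel
theorem t3 : T [4, 0, 4, 0] [] [0, 4] = true := by decide +kernel
theorem t4 : T [2, 0] [0] [2, 4, 2, 0] = true := by decide +kernel
theorem t5 : T [4, 2, 4, 3, 1] [2] [0, 3, 4, 2, 4, 1, 0, 2, 4, 1, 0, 2, 1, 0] = true := by decide +kernel
theorem t6 : T [4, 2, 4, 3, 2] [0, 3] [2, 0, 3, 0, 3] = true := by decide +kernel
theorem t7 : T [4, 3] [0, 3] [3, 4, 2, 0, 3, 0, 2] = true := by decide +kernel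
theorem t8 : T [4, 0] [2, 4, 2, 1, 3] [2, 0, 3, 1, 4, 2, 1, 4, 3, 0, 1, 0] = true := by decide +kernel
theorem t9 : T [4, 3, 4, 2, 0] [3, 0] [3, 0, 2, 0, 4, 2] = true := by decide +kernel
theorem t10 : T [4, 3, 2, 0] [4, 0, 3] [2, 0, 3, 0, 4, 0] = true := by decide +kernel
theorem t11 : T [1, 0] [2, 1] [0, 1, 2, 4, 0, 4, 3, 1, 0, 1] = true := by decide +kernel
theorem t12 : T [4, 2, 4, 0] [2] [4, 2, 4, 0, 3, 4, 2] = true := by decide +kernel
theorem t13 : T [3, 0] [0, 2, 1] [1, 4, 2, 1, 3, 0, 3, 2, 1, 3] = true := by decide +kernel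
theorem t14 : T [2, 0, 1, 0] [2, 4, 0] [1, 4, 2, 0, 3, 1, 2, 0, 3, 1] = true := by decide +kernel
theorem t15 : T [3, 2, 0] [0] [3, 0, 2, 0, 4, 2] = true := by decide +kernel
theorem t16 : T [4, 3, 1, 2, 0] [4, 3, 1, 4, 0, 1] [0, 3, 1, 4, 3, 0, 4, 1, 2, 0] = true := by decide +kernel
theorem t17 : T [3, 1, 0] [0, 4, 3, 2] [1, 2, 0, 3, 1, 2, 0, 3, 1] = true := by decide +kernel
theorem t18 : T [4, 3, 2, 1] [1, 2, 0, 3] [0, 2, 1, 0, 4, 2, 1, 3, 0, 1, 0, 2] = true := by decide +kernel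
theorem t19 : T [4, 2, 1] [2, 4, 0, 2, 1, 3] [1, 0, 1, 0, 2, 4, 1, 3] = true := by decide +kernel
theorem t20 : T [3, 2, 1] [3, 0] [0, 1, 2, 0, 3, 1, 3, 2, 0, 3, 1] = true := by decide +kernel

theorem lst_T : ∀ p ∈ lst, p.1 ≠ 1 → ∃ u v : A, p.1 = (u * ev s wx * u⁻¹) * (v * ev s wx * v⁻¹) := by
  intro p hp h1
  simp only [lst, List.mem_cons, List.not_mem_nil, or_false] at hp
  rcases hp with rfl | rfl | rfl | rfl | rfl | rfl | rfl | rfl | rfl | rfl | rfl | rfl | rfl | rfl | rfl | rfl | rfl | rfl | rfl | rfl | rfl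
  · exact absurd rfl h1
  exacts [of_T t1, of_T t2, of_T t3, of_T t4, of_T t5, of_T t6, of_T t7, of_T t8, of_T t9, of_T t10, of_T t11, of_T t12, of_T t13, of_T t14, of_T t15, of_T t16, of_T t17, of_T t18, of_T t19, of_T t20]

theorem all_K : ∃ x : K, orderOf x = 7 ∧ ∀ g : K, g ≠ 1 → ∃ u v : K, g = (u * x * u⁻¹) * (v * x * v⁻¹) := by
  refine ⟨⟨ev s wx, ev_mem wx⟩, ?_, ?_⟩
  · have := Fact.mk (show Nat.Prime 7 by norm_num)
    refine orderOf_eq_prime (Subtype.ext x_pow) fun h => ?_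
    exact ne_of (u := wx) (v := []) 0 (by decide +kernel) (congrArg Subtype.val h)
  rintro ⟨g, hg⟩ hg1
  obtain ⟨p, hp, hc⟩ := classes hg
  obtain ⟨c, rfl⟩ := isConj_iff.1 hc
  obtain ⟨u, v, h⟩ := lst_T p hp fun h => hg1 (Subtype.ext (by
    show c * p.1 * c⁻¹ = 1
    rw [h, mul_one, mul_inv_cancel]))
  obtain ⟨k, hk, h1⟩ := conj_K (c * u)
  obtain ⟨l, hl, h2⟩ := conj_K (c * v)
  refine ⟨⟨k, hk⟩, ⟨l, hl⟩, Subtype.ext ?_⟩
  show c * p.1 * c⁻¹ = (k * ev s wx * k⁻¹) * (l * ev s wx * l⁻¹)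
  rw [← h1, ← h2, h]
  group

/-- **S2464, row `³D₄(2)`** (the body of `Six`) -/
theorem six_td4_two {F : Type*} [Field F] [Fintype F] (hF : Fintype.card F = 2 ^ 3) :
    ∃ x y : ↥(Lie.twistedD4 F 2), Nat.Coprime (orderOf x) 6 ∧ Nat.Coprime (orderOf y) 6 ∧
      ∀ g : ↥(Lie.twistedD4 F 2), g ≠ 1 → ∃ u v : ↥(Lie.twistedD4 F 2), g = (u * x * u⁻¹) * (v * y * v⁻¹) := by
  obtain ⟨φ⟩ := iso F hF
  obtain ⟨x, hx, h⟩ := all_K
  have ho : Nat.Coprime (orderOf (φ x)) 6 := by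
    rw [MulEquiv.orderOf_eq, hx]
    norm_num
  refine ⟨φ x, φ x, ho, ho, fun g hg => ?_⟩
  obtain ⟨u, v, h1⟩ := h (φ.symm g) fun h2 => hg (by rw [← φ.apply_symm_apply g, h2, map_one])
  refine ⟨φ u, φ v, ?_⟩
  rw [← φ.apply_symm_apply g, h1]
  simp only [map_mul, map_inv]

end Cfsg.Agent.H332.TC.D42
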