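import Cfsg.Agent.H65.Ore.Prd
import Cfsg.Agent.H210.TC.Pair
import Cfsg.Agent.J3Type.CharTools
import Cfsg.Agent.SporadicA.M11CharSimple

/-!
# Products of two classes: a self-centralizing Sylow subgroup of prime order and a rational `p`-element (helper332, S2464)

* `exists_int` : the values at a rational `p`-element `y` are integers, congruent to the degree modulo `p`;
* `exists_blk` : the characters at a self-centralizing Sylow subgroup of prime order `r`;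
* `Blk.prd` : if at most one nontrivial ordinary character `χ` has `χ(y) ≠ 0`, and then `ε χ(y) = -1`, every `g ≠ 1` is a
  product of a conjugate of `x` and a conjugate of `y`.
-/

set_option autoImplicit false

open Cfsg Subgroup
open scoped ComplexConjugate

namespace Cfsg.Agent.H332.TC.GP

open Cfsg.Agent.H65.Ore Cfsg.Agent.Characters.Core

universe u

variable {G : Type u} [Group G] [Finite G]

theorem exists_int {p : ℕ} (hp : p.Prime) {χ : G → ℂ} (hχ : IsCharacter G χ) {D : ℕ} (hD : χ 1 = D) (n : ℕ) :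
    ∀ y : G, y ^ p ^ n = 1 → (∀ k, ¬ p ∣ k → IsConj y (y ^ k)) → ∃ v : ℤ, χ y = v ∧ (p : ℤ) ∣ v - D := by
  induction n with
  | zero =>
    intro y hy _
    rw [pow_zero, pow_one] at hy
    exact ⟨D, by rw [hy, hD]; push_cast; rfl, by rw [sub_self]; exact dvd_zero _⟩
  | succ n ih =>
    intro y hy hr
    obtain ⟨w, hw, hwD⟩ := ih (y ^ p) (by rw [← pow_mul, ← pow_succ']; exact hy) (fun k hk => by
      obtain ⟨c, hc⟩ := isConj_iff.1 (hr k hk)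
      refine isConj_iff.2 ⟨c, ?_⟩
      rw [← conj_pow, hc, ← pow_mul, ← pow_mul, mul_comm])
    by_cases hy1 : y = 1
    · exact ⟨D, by rw [hy1, hD]; push_cast; rfl, by rw [sub_self]; exact dvd_zero _⟩
    have hpo : p ∣ orderOf y := by
      obtain ⟨j, -, hj⟩ := (Nat.dvd_prime_pow hp).1 (orderOf_dvd_of_pow_eq_one hy)
      rcases Nat.eq_zero_or_pos j with rfl | hj0
      · rw [pow_zero] at hj
        exact absurd (orderOf_eq_one_iff.1 hj) hy1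
      · rw [hj]
        exact dvd_pow_self p hj0.ne'
    obtain ⟨v, hv⟩ := J3Type.CharTools.int_of_conj hχ y fun m hm => hr m fun h => by
      have h1 := Nat.dvd_gcd h hpo
      rw [hm] at h1
      exact hp.one_lt.ne' (Nat.dvd_one.1 h1)
    refine ⟨v, hv, ?_⟩
    have h1 := J3Type.CharTools.int_congr hχ y hp hv hw
    have h2 := dvd_add h1 hwD
    rwa [sub_add_sub_cancel] at h2

/-- the characters at a self-centralizing Sylow subgroup of prime order -/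
structure Blk (G : Type u) [Group G] [Finite G] (r e t : ℕ) (P : Subgroup G) where
  F : Finset (IrrCharacter G)
  E : Finset (IrrCharacter G)
  ε : IrrCharacter G → ℤ
  d : ℤ
  dis : Disjoint F E
  cF : F.card = e
  cE : E.card = t
  sg : ∀ χ ∈ F, ε χ = 1 ∨ ε χ = -1
  hd : d = 1 ∨ d = -1
  one : one1 G ∈ F
  ε1 : ε (one1 G) = 1
  val : ∀ χ ∈ F, ∀ x ∈ P, x ≠ 1 → (χ : G → ℂ) x = ε χ
  van : ∀ χ : IrrCharacter G, χ ∉ F → χ ∉ E → ∀ x ∈ P, x ≠ 1 → (χ : G → ℂ) x = 0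
  agree : ∀ Θ ∈ E, ∀ Θ' ∈ E, ∀ z : G, ¬ r ∣ orderOf z → (Θ : G → ℂ) z = (Θ' : G → ℂ) z
  sumE : ∀ x ∈ P, x ≠ 1 → ∑ Θ ∈ E, (Θ : G → ℂ) x = -d
  sum : ∀ Θ ∈ E, ∀ g : G, ¬ r ∣ orderOf g → ∑ χ ∈ F, (ε χ : ℂ) * (χ : G → ℂ) g = d * (Θ : G → ℂ) g
  resF : ∀ χ ∈ F, ∃ m : ℤ, (charDegree (χ : G → ℂ) : ℤ) = ε χ + r * m
  resE : ∀ χ ∈ E, ∃ m : ℤ, (charDegree (χ : G → ℂ) : ℤ) = d * e + r * m

theorem exists_blk [Fintype (IrrCharacter G)] {r : ℕ} [Fact r.Prime] (hp2 : r ≠ 2) {P : Sylow r G}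
    (hP : Nat.card P = r) (hC : centralizer (P : Set G) = (P : Subgroup G)) {e t : ℕ}
    (he : (centralizer (P : Set G)).relIndex (normalizer (P : Set G)) = e) (ht : e * t = r - 1) :
    Nonempty (Blk G r e t (P : Subgroup G)) := by
  classical
  have := Fintype.ofFinite G
  have := Fintype.ofFinite (P : Subgroup G)
  have hp : r.Prime := Fact.out
  have hp2' := hp.two_le
  obtain ⟨NE, X, ε, d, S, hdis, hNE, hX, hε, hd, ⟨χ₁, hχ₁, hχ₁1, hχ₁2⟩, hv, hS, hSd, hsum, hz⟩ :=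
    SmallSimple.TheoremBCor.theoremB_selfCent r hp2 P hP hC e t he ht
  have h11 : χ₁ = one1 G := Subtype.ext hχ₁1
  have ht0 : 0 < t := Nat.pos_of_ne_zero fun h => by rw [h, mul_zero] at ht; omega
  have hdC : (d : ℂ) * d = 1 := by rcases hd with h | h <;> rw [h] <;> norm_num
  have hagree : ∀ Θ ∈ X, ∀ Θ' ∈ X, ∀ z : G, ¬ r ∣ orderOf z → (Θ : G → ℂ) z = (Θ' : G → ℂ) z := by
    intro Θ hΘ Θ' hΘ' z hzo
    have h1 : (d : ℂ) * (Θ : G → ℂ) z = d * (Θ' : G → ℂ) z := by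
      rw [← hsum Θ hΘ z hzo, ← hsum Θ' hΘ' z hzo]
    linear_combination (d : ℂ) * h1 - ((Θ : G → ℂ) z - (Θ' : G → ℂ) z) * hdC
  have hdeg : ∀ χ : IrrCharacter G, (χ : G → ℂ) 1 = charDegree (χ : G → ℂ) := fun χ => Blocks.Knorr.charDegree_eq χ.2
  have hdeg0 : ∀ χ : IrrCharacter G, charDegree (χ : G → ℂ) ≠ 0 := fun χ h =>
    Nat.card_pos.ne' (Nat.eq_zero_of_zero_dvd (h ▸ Blocks.Knorr.charDegree_dvd χ.2 : 0 ∣ Nat.card G))
  have ho1 : ¬ r ∣ orderOf (1 : G) := by rw [orderOf_one]; exact fun h => hp.one_lt.ne' (Nat.dvd_one.1 h)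
  have hsplit : ∀ f : IrrCharacter G → ℂ, (∀ χ, χ ∉ NE → χ ∉ X → f χ = 0) →
      ∑ χ, f χ = ∑ χ ∈ NE, f χ + ∑ χ ∈ X, f χ := by
    intro f hf
    rw [← Finset.sum_union hdis]
    symm
    refine Finset.sum_subset (Finset.subset_univ _) fun χ _ hχ => ?_
    rw [Finset.mem_union, not_or] at hχ
    exact hf χ hχ.1 hχ.2
  obtain ⟨Θ₀, hΘ₀⟩ : X.Nonempty := Finset.card_pos.1 (by omega)
  have hXx : ∀ x ∈ P, x ≠ 1 → ∑ Θ ∈ X, (Θ : G → ℂ) x = -d := by
    intro x hx hx1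
    have hvan : ∀ χ : IrrCharacter G, χ ∉ NE → χ ∉ X → (χ : G → ℂ) x = 0 := fun χ h1 h2 => (hz χ h1 h2).1 x hx hx1
    have h1 := H210.TC.Pair.one_eq (G := G) (a := x) (b := 1) (by
      rw [isConj_one_left]
      exact hx1)
    rw [hsplit _ fun χ h1 h2 => by rw [hvan χ h1 h2, zero_mul]] at h1
    have h2 : ∑ χ ∈ NE, (χ : G → ℂ) x * conj ((χ : G → ℂ) 1) = d * (Θ₀ : G → ℂ) 1 := by
      rw [← hsum Θ₀ hΘ₀ 1 ho1]
      refine Finset.sum_congr rfl fun χ hχ => ?_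
      rw [hv χ hχ x hx hx1, hdeg]
      simp
    have h3 : ∑ χ ∈ X, (χ : G → ℂ) x * conj ((χ : G → ℂ) 1) = (∑ χ ∈ X, (χ : G → ℂ) x) * (Θ₀ : G → ℂ) 1 := by
      rw [Finset.sum_mul]
      refine Finset.sum_congr rfl fun χ hχ => ?_
      rw [hagree χ hχ Θ₀ hΘ₀ 1 ho1, hdeg]
      simp
    rw [h2, h3, ← add_mul] at h1
    have h4 : (Θ₀ : G → ℂ) 1 ≠ 0 := by rw [hdeg]; exact_mod_cast hdeg0 Θ₀
    have h5 := (mul_eq_zero.1 h1).resolve_right h4
    linear_combination h5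
  exact ⟨{
    F := NE
    E := X
    ε := ε
    d := d
    dis := hdis
    cF := hNE
    cE := hX
    sg := hε
    hd := hd
    one := h11 ▸ hχ₁
    ε1 := h11 ▸ hχ₁2
    val := hv
    van := fun χ h1 h2 => (hz χ h1 h2).1
    agree := hagree
    sumE := hXx
    sum := hsum
    resF := fun χ hχ => H210.TC.Pair.res_const (P := (P : Subgroup G)) hP hp.two_le (χ := χ) (c := ε χ) (hv χ hχ)
    resE := fun χ hχ => by
      obtain ⟨m, hm⟩ := H210.TC.Pair.res_exc (P := (P : Subgroup G)) hP (χ := χ) (hS χ hχ).1 (hS χ hχ).2.1 (hS χ hχ).2.2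
      exact ⟨m, hm⟩ }⟩

namespace Blk

variable {r e t : ℕ} {P : Subgroup G} (A : Blk G r e t P)

theorem dd : (A.d : ℂ) * A.d = 1 := by rcases A.hd with h | h <;> rw [h] <;> norm_num

/-- the sum over all characters -/
theorem split [Fintype (IrrCharacter G)] {x : G} (hx : x ∈ P) (hx1 : x ≠ 1) (f : IrrCharacter G → ℂ) :
    ∑ χ : IrrCharacter G, (χ : G → ℂ) x * f χ = ∑ χ ∈ A.F, (A.ε χ : ℂ) * f χ + ∑ Θ ∈ A.E, (Θ : G → ℂ) x * f Θ := by
  classical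
  have h1 : ∑ χ : IrrCharacter G, (χ : G → ℂ) x * f χ = ∑ χ ∈ A.F ∪ A.E, (χ : G → ℂ) x * f χ := by
    symm
    refine Finset.sum_subset (Finset.subset_univ _) fun χ _ hχ => ?_
    rw [Finset.mem_union, not_or] at hχ
    rw [A.van χ hχ.1 hχ.2 x hx hx1, zero_mul]
  rw [h1, Finset.sum_union A.dis]
  congr 1
  exact Finset.sum_congr rfl fun χ hχ => by rw [A.val χ hχ x hx hx1]

/-- **The class sum.** -/
theorem prd [IsSimpleGroup G] (hr : r.Prime) (hP : Nat.card P = r)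
    (hC : ∀ x ∈ P, x ≠ 1 → centralizer ({x} : Set G) = P) (hS : ∀ z : G, orderOf z = r → ∃ c : G, c * z * c⁻¹ ∈ P)
    {x y : G} (hx : x ∈ P) (hx1 : x ≠ 1) (hy : ¬ r ∣ orderOf y)
    (ht : A.E.Nonempty) (hD : ∀ Θ ∈ A.E, r < charDegree (Θ : G → ℂ))
    (h : (∀ χ ∈ A.F, χ ≠ one1 G → (χ : G → ℂ) y = 0) ∨ ∃ χ₀ ∈ A.F, χ₀ ≠ one1 G ∧ (A.ε χ₀ : ℂ) * (χ₀ : G → ℂ) y = -1 ∧
      ∀ χ ∈ A.F, χ ≠ one1 G → χ ≠ χ₀ → (χ : G → ℂ) y = 0) {g : G} (hg : g ≠ 1) : Prd x y g := by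
  classical
  have : Finite (IrrCharacter G) := finite_irr
  have := Fintype.ofFinite (IrrCharacter G)
  have hdeg : ∀ χ : IrrCharacter G, (χ : G → ℂ) 1 = charDegree (χ : G → ℂ) := fun χ => Blocks.Knorr.charDegree_eq χ.2
  have hdeg0 : ∀ χ : IrrCharacter G, (χ : G → ℂ) 1 ≠ 0 := fun χ => isIrr_apply_one_ne_zero χ.2
  -- faithful
  have hf : ∀ χ : IrrCharacter G, χ ≠ one1 G → conj ((χ : G → ℂ) g) / (χ : G → ℂ) 1 ≠ 1 := by
    intro χ hχ h1
    rw [div_eq_one_iff_eq (hdeg0 χ)] at h1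
    have h2 : (χ : G → ℂ) g = (χ : G → ℂ) 1 := by
      have := congrArg (starRingEnd ℂ) h1
      rw [Complex.conj_conj] at this
      rw [this, hdeg, Complex.conj_natCast]
    exact hχ (Subtype.ext (SporadicA.M11CharSimple.eq_one_of_apply_eq χ.2 hg h2))
  obtain ⟨Θ₀, hΘ₀⟩ := ht
  apply prd_of_ne_zero
  have e0 : ∑ χ : IrrCharacter G, (χ : G → ℂ) x * (χ : G → ℂ) y * conj ((χ : G → ℂ) g) / (χ : G → ℂ) 1 =
      ∑ χ : IrrCharacter G, (χ : G → ℂ) x * ((χ : G → ℂ) y * (conj ((χ : G → ℂ) g) / (χ : G → ℂ) 1)) :=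
    Finset.sum_congr rfl fun χ _ => by ring
  rw [e0, A.split hx hx1]
  have h1y : A.ε (one1 G) * ((one1 G : IrrCharacter G) : G → ℂ) y = 1 := by
    rw [A.ε1, one1_apply]
    norm_num
  rcases h with h | ⟨χ₀, hχ₀, hχ₀1, hval, h⟩
  · -- only the exceptional characters
    have hF : ∑ χ ∈ A.F, (A.ε χ : ℂ) * ((χ : G → ℂ) y * (conj ((χ : G → ℂ) g) / (χ : G → ℂ) 1)) = 1 := by
      rw [Finset.sum_eq_single_of_mem (one1 G) A.one fun χ hχ hne => by rw [h χ hχ hne]; ring, A.ε1, one1_apply,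
        one1_apply, one1_apply]
      norm_num
    have hFy : ∑ χ ∈ A.F, (A.ε χ : ℂ) * (χ : G → ℂ) y = 1 := by
      rw [Finset.sum_eq_single_of_mem (one1 G) A.one fun χ hχ hne => by rw [h χ hχ hne]; ring, A.ε1, one1_apply]
      norm_num
    have hEy : ∀ Θ ∈ A.E, (Θ : G → ℂ) y = A.d := by
      intro Θ hΘ
      have h1 := A.sum Θ hΘ y hy
      rw [hFy] at h1
      linear_combination (-(A.d : ℂ)) * h1 - (Θ : G → ℂ) y * A.dd
    rw [hF]
    by_cases hgr : r ∣ orderOf g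
    · -- `r`-singular elements
      have hcx : Nat.card (centralizer ({x} : Set G)) = r := by rw [hC x hx hx1, hP]
      have hcg : Nat.card (centralizer ({g} : Set G)) ≤ r := by
        have h1 : orderOf (g ^ (orderOf g / r)) = r := by
          rw [orderOf_pow_of_dvd (Nat.div_pos (Nat.le_of_dvd (orderOf_pos g) hgr) hr.pos).ne' (Nat.div_dvd_of_dvd hgr),
            Nat.div_div_self hgr (orderOf_pos g).ne']
        obtain ⟨c, hc⟩ := hS _ h1
        have h2 : c * g ^ (orderOf g / r) * c⁻¹ ≠ 1 := by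
          intro h3
          rw [conj_eq_one_iff] at h3
          rw [h3, orderOf_one] at h1
          exact hr.one_lt.ne h1
        have h3 : (centralizer ({g} : Set G)).map (MulAut.conj c).toMonoidHom ≤ P := by
          rw [← hC _ hc h2]
          rintro _ ⟨w, hw, rfl⟩
          have hw' : Commute w g := mem_centralizer_singleton_iff.1 hw
          have h4 : Commute w (g ^ (orderOf g / r)) := hw'.pow_right _
          refine mem_centralizer_singleton_iff.2 ?_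
          show c * w * c⁻¹ * (c * g ^ (orderOf g / r) * c⁻¹) = c * g ^ (orderOf g / r) * c⁻¹ * (c * w * c⁻¹)
          calc c * w * c⁻¹ * (c * g ^ (orderOf g / r) * c⁻¹) = c * (w * g ^ (orderOf g / r)) * c⁻¹ := by group
            _ = c * (g ^ (orderOf g / r) * w) * c⁻¹ := by rw [h4.eq]
            _ = _ := by group
        have h5 := Nat.le_of_dvd (by rw [hP]; exact hr.pos) (card_dvd_of_le h3)
        rwa [Nat.card_congr ((centralizer ({g} : Set G)).equivMapOfInjective _ (MulAut.conj c).injective).toEquiv.symm,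
          hP] at h5
      intro h3
      have h4 : ∑ Θ ∈ A.E, (Θ : G → ℂ) x * ((Θ : G → ℂ) y * (conj ((Θ : G → ℂ) g) / (Θ : G → ℂ) 1)) = -1 := by
        linear_combination h3
      have h5 := norm_sum_le A.E fun Θ : IrrCharacter G =>
        (Θ : G → ℂ) x * ((Θ : G → ℂ) y * (conj ((Θ : G → ℂ) g) / (Θ : G → ℂ) 1))
      rw [h4, norm_neg, norm_one] at h5
      have h6 : ∀ Θ ∈ A.E, ‖(Θ : G → ℂ) x * ((Θ : G → ℂ) y * (conj ((Θ : G → ℂ) g) / (Θ : G → ℂ) 1))‖ ≤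
          (‖(Θ : G → ℂ) x‖ ^ 2 + ‖(Θ : G → ℂ) g‖ ^ 2) / (2 * (r + 1)) := by
        intro Θ hΘ
        have h7 : ‖(Θ : G → ℂ) y‖ = 1 := by
          rw [hEy Θ hΘ]
          rcases A.hd with h | h <;> rw [h] <;> simp
        have h8 : ((r : ℝ) + 1) ≤ ‖(Θ : G → ℂ) 1‖ := by
          rw [hdeg, Complex.norm_natCast]
          exact_mod_cast hD Θ hΘ
        have h9 : (0 : ℝ) < (r : ℝ) + 1 := by positivity
        rw [norm_mul, norm_mul, norm_div, Complex.norm_conj, h7, one_mul]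
        have ha : ‖(Θ : G → ℂ) g‖ / ‖(Θ : G → ℂ) 1‖ ≤ ‖(Θ : G → ℂ) g‖ / ((r : ℝ) + 1) := by gcongr
        calc ‖(Θ : G → ℂ) x‖ * (‖(Θ : G → ℂ) g‖ / ‖(Θ : G → ℂ) 1‖) ≤
              ‖(Θ : G → ℂ) x‖ * (‖(Θ : G → ℂ) g‖ / ((r : ℝ) + 1)) := mul_le_mul_of_nonneg_left ha (norm_nonneg _)
          _ = (2 * (‖(Θ : G → ℂ) x‖ * ‖(Θ : G → ℂ) g‖)) / (2 * (r + 1)) := by field_simp
          _ ≤ _ := by
            gcongr
            nlinarith [sq_nonneg (‖(Θ : G → ℂ) x‖ - ‖(Θ : G → ℂ) g‖)]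
      have h7 := h5.trans (Finset.sum_le_sum h6)
      rw [← Finset.sum_div, Finset.sum_add_distrib] at h7
      have h8 : ∀ w : G, ∑ Θ ∈ A.E, ‖(Θ : G → ℂ) w‖ ^ 2 ≤ (Nat.card (centralizer ({w} : Set G)) : ℝ) := by
        intro w
        rw [← H210.TC.Pair.sq_norm_cent w]
        exact Finset.sum_le_sum_of_subset_of_nonneg (Finset.subset_univ _) fun _ _ _ => by positivity
      have h9 := h8 x
      have h10 := h8 g
      have h11 : (Nat.card (centralizer ({g} : Set G)) : ℝ) ≤ r := by exact_mod_cast hcg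
      rw [hcx] at h9
      have h12 : (0 : ℝ) < 2 * ((r : ℝ) + 1) := by positivity
      rw [le_div_iff₀ h12] at h7
      linarith
    · have h2 : ∑ Θ ∈ A.E, (Θ : G → ℂ) x * ((Θ : G → ℂ) y * (conj ((Θ : G → ℂ) g) / (Θ : G → ℂ) 1)) =
          (∑ Θ ∈ A.E, (Θ : G → ℂ) x) * (A.d * (conj ((Θ₀ : G → ℂ) g) / (Θ₀ : G → ℂ) 1)) := by
        rw [Finset.sum_mul]
        refine Finset.sum_congr rfl fun Θ hΘ => ?_
        rw [hEy Θ hΘ, A.agree Θ hΘ Θ₀ hΘ₀ g hgr, A.agree Θ hΘ Θ₀ hΘ₀ 1 (by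
          rw [orderOf_one]; exact fun h => hr.one_lt.ne' (Nat.dvd_one.1 h))]
      rw [h2, A.sumE x hx hx1]
      intro h3
      apply hf Θ₀ (fun h4 => Finset.disjoint_left.1 A.dis A.one (h4 ▸ hΘ₀))
      linear_combination (-1 : ℂ) * h3 + (conj ((Θ₀ : G → ℂ) g) / (Θ₀ : G → ℂ) 1) * -A.dd
  · -- one ordinary character
    have key : ∀ f : IrrCharacter G → ℂ, ∑ χ ∈ A.F, (A.ε χ : ℂ) * ((χ : G → ℂ) y * f χ) = f (one1 G) - f χ₀ := by
      intro f
      rw [← Finset.add_sum_erase _ _ A.one, A.ε1, one1_apply]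
      rw [Finset.sum_eq_single_of_mem χ₀ (Finset.mem_erase.2 ⟨hχ₀1, hχ₀⟩) fun χ hχ hne => by
        rw [h χ (Finset.mem_erase.1 hχ).2 (Finset.mem_erase.1 hχ).1 hne]; ring]
      linear_combination (f χ₀) * hval
    have hFy := key fun _ => 1
    simp only [mul_one, sub_self] at hFy
    have hEy : ∀ Θ ∈ A.E, (Θ : G → ℂ) y = 0 := by
      intro Θ hΘ
      have h1 := A.sum Θ hΘ y hy
      rw [hFy] at h1
      linear_combination (-(A.d : ℂ)) * h1 - (Θ : G → ℂ) y * A.dd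
    rw [key, Finset.sum_eq_zero fun Θ hΘ => by rw [hEy Θ hΘ]; ring, one1_apply, one1_apply, map_one, div_one, add_zero]
    intro h3
    exact hf χ₀ hχ₀1 (by linear_combination (-1 : ℂ) * h3)

/-- **The integers**: values at `y`. -/
theorem vals (hr : r.Prime) (ht : A.E.Nonempty) {p : ℕ} (hp : p.Prime) (hpr : p ≠ r) {y : G} {n : ℕ}
    (hyo : orderOf y = p ^ n) (hrat : ∀ k, ¬ p ∣ k → IsConj y (y ^ k)) {N : ℕ}
    (hcy : Nat.card (centralizer ({y} : Set G)) = N) [DecidableEq (IrrCharacter G)] :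
    ∃ (v : IrrCharacter G → ℤ) (w : ℤ) (D : ℕ), (∀ χ : IrrCharacter G, (χ : G → ℂ) y = v χ) ∧
      (∀ χ : IrrCharacter G, (p : ℤ) ∣ v χ - charDegree (χ : G → ℂ)) ∧
      (∀ Θ ∈ A.E, charDegree (Θ : G → ℂ) = D) ∧ (p : ℤ) ∣ w - D ∧ (∃ m : ℤ, (D : ℤ) = A.d * e + r * m) ∧
      (D : ℕ) ∣ Nat.card G ∧
      ∑ χ ∈ A.F.erase (one1 G), A.ε χ * v χ = A.d * w - 1 ∧
      ∑ χ ∈ A.F.erase (one1 G), v χ ^ 2 + t * w ^ 2 ≤ N - 1 ∧
      ∑ χ ∈ A.F.erase (one1 G), A.ε χ * charDegree (χ : G → ℂ) = A.d * D - 1 := by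
  have : Finite (IrrCharacter G) := finite_irr
  have := Fintype.ofFinite (IrrCharacter G)
  have hdeg : ∀ χ : IrrCharacter G, (χ : G → ℂ) 1 = charDegree (χ : G → ℂ) := fun χ => Blocks.Knorr.charDegree_eq χ.2
  have hy : ¬ r ∣ orderOf y := by
    rw [hyo]
    exact fun h => hpr ((Nat.prime_dvd_prime_iff_eq hr hp).1 (hr.dvd_of_dvd_pow h)).symm
  have ho1 : ¬ r ∣ orderOf (1 : G) := by rw [orderOf_one]; exact fun h => hr.one_lt.ne' (Nat.dvd_one.1 h)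
  have h1 := fun χ : IrrCharacter G => exists_int hp (isIrr_isCharacter χ.2) (hdeg χ) n y
    (by rw [← hyo, pow_orderOf_eq_one]) hrat
  choose v hv hvD using h1
  obtain ⟨Θ₀, hΘ₀⟩ := ht
  have hEv : ∀ Θ ∈ A.E, v Θ = v Θ₀ := by
    intro Θ hΘ
    have h2 := A.agree Θ hΘ Θ₀ hΘ₀ y hy
    rw [hv, hv] at h2
    exact_mod_cast h2
  have hED : ∀ Θ ∈ A.E, charDegree (Θ : G → ℂ) = charDegree (Θ₀ : G → ℂ) := by
    intro Θ hΘ
    have h2 := A.agree Θ hΘ Θ₀ hΘ₀ 1 ho1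
    rw [hdeg, hdeg] at h2
    exact_mod_cast h2
  have hv1 : v (one1 G) = 1 := by
    have h2 := hv (one1 G)
    rw [one1_apply] at h2
    exact_mod_cast h2.symm
  have hD1 : charDegree ((one1 G : IrrCharacter G) : G → ℂ) = 1 := by
    have h2 := hdeg (one1 G)
    rw [one1_apply] at h2
    exact_mod_cast h2.symm
  refine ⟨v, v Θ₀, charDegree (Θ₀ : G → ℂ), hv, hvD, hED, hvD Θ₀, A.resE Θ₀ hΘ₀, Blocks.Knorr.charDegree_dvd Θ₀.2, ?_, ?_, ?_⟩
  · have h2 := A.sum Θ₀ hΘ₀ y hy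
    have h3 : ∑ χ ∈ A.F, A.ε χ * v χ = A.d * v Θ₀ := by
      have h4 : ((∑ χ ∈ A.F, A.ε χ * v χ : ℤ) : ℂ) = ((A.d * v Θ₀ : ℤ) : ℂ) := by
        push_cast
        rw [← hv Θ₀, ← h2]
        exact Finset.sum_congr rfl fun χ _ => by rw [hv]
      exact_mod_cast h4
    rw [← Finset.add_sum_erase _ _ A.one, A.ε1, hv1] at h3
    linarith
  · have h2 := H210.TC.Pair.sq_norm_cent y
    rw [hcy] at h2
    have h3 : ∑ χ : IrrCharacter G, v χ ^ 2 = (N : ℤ) := by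
      have h4 : ((∑ χ : IrrCharacter G, v χ ^ 2 : ℤ) : ℝ) = ((N : ℤ) : ℝ) := by
        push_cast
        rw [← h2]
        refine Finset.sum_congr rfl fun χ _ => ?_
        rw [hv, Complex.norm_intCast, sq_abs]
      exact_mod_cast h4
    have h4 : ∑ χ ∈ A.F ∪ A.E, v χ ^ 2 ≤ ∑ χ : IrrCharacter G, v χ ^ 2 :=
      Finset.sum_le_sum_of_subset_of_nonneg (Finset.subset_univ _) fun _ _ _ => by positivity
    rw [Finset.sum_union A.dis, h3, ← Finset.add_sum_erase _ _ A.one, hv1,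
      Finset.sum_congr (s₁ := A.E) (g := fun _ => v Θ₀ ^ 2) rfl fun Θ hΘ => by rw [hEv Θ hΘ], Finset.sum_const, A.cE,
      nsmul_eq_mul] at h4
    linarith
  · have h2 := A.sum Θ₀ hΘ₀ 1 ho1
    have h3 : ∑ χ ∈ A.F, A.ε χ * (charDegree (χ : G → ℂ) : ℤ) = A.d * charDegree (Θ₀ : G → ℂ) := by
      have h4 : ((∑ χ ∈ A.F, A.ε χ * (charDegree (χ : G → ℂ) : ℤ) : ℤ) : ℂ) =
          ((A.d * charDegree (Θ₀ : G → ℂ) : ℤ) : ℂ) := by
        push_cast
        rw [← hdeg Θ₀, ← h2]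
        exact Finset.sum_congr rfl fun χ _ => by rw [hdeg]
      exact_mod_cast h4
    rw [← Finset.add_sum_erase _ _ A.one, A.ε1, hD1] at h3
    push_cast at h3
    linarith

end Blk

end Cfsg.Agent.H332.TC.GP
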